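import Mathlib.Algebra.Homology.DerivedCategory.Ext.ExactSequences
import Mathlib.CategoryTheory.Limits.Shapes.BinaryBiproducts
import Mathlib.CategoryTheory.Preadditive.Biproducts

/-!
# Vanishing of extensions from a two-term resolution
-/

set_option autoImplicit false
set_option linter.style.haveILetI false

universe w v u

open CategoryTheory CategoryTheory.Limits

namespace GrothLib.Exc20

variable {C : Type u} [Category.{v} C] [Abelian C] [HasExt.{w} C] {J : Type} [Finite J] {Y : J → C}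

theorem subsingleton_to_sigma [HasCoproduct Y] (A : C) {W : C} (e : W ≅ ∐ Y) {p : ℕ}
    (h : ∀ j, Subsingleton (Abelian.Ext A (Y j) p)) : Subsingleton (Abelian.Ext A W p) := by
  haveI := Fintype.ofFinite J
  haveI := HasFiniteBiproducts.of_hasFiniteProducts (C := C)
  let e' : W ≅ ⨁ Y := e ≪≫ (biproduct.isoCoproduct Y).symm
  haveI : Subsingleton (Abelian.Ext A (⨁ Y) p) :=
    (Abelian.Ext.addEquivBiproduct A (biproduct.isBilimit Y) p).toEquiv.subsingleton
  refine ⟨fun x y => ?_⟩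
  have key : ∀ z : Abelian.Ext A W p,
      z = (z.comp (Abelian.Ext.mk₀ e'.hom) (add_zero p)).comp (Abelian.Ext.mk₀ e'.inv) (add_zero p) := fun z => by
    rw [Abelian.Ext.comp_assoc_of_second_deg_zero, Abelian.Ext.mk₀_comp_mk₀, e'.hom_inv_id, Abelian.Ext.comp_mk₀_id]
  rw [key x, key y, Subsingleton.elim (x.comp (Abelian.Ext.mk₀ e'.hom) (add_zero p))
    (y.comp (Abelian.Ext.mk₀ e'.hom) (add_zero p))]

theorem subsingleton_from_sigma [HasCoproduct Y] (B : C) {W : C} (e : W ≅ ∐ Y) {p : ℕ}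
    (h : ∀ j, Subsingleton (Abelian.Ext (Y j) B p)) : Subsingleton (Abelian.Ext W B p) := by
  haveI := Fintype.ofFinite J
  haveI := HasFiniteBiproducts.of_hasFiniteProducts (C := C)
  let e' : W ≅ ⨁ Y := e ≪≫ (biproduct.isoCoproduct Y).symm
  haveI : Subsingleton (Abelian.Ext (⨁ Y) B p) :=
    (Abelian.Ext.biproductAddEquiv (biproduct.isBilimit Y) B p).toEquiv.subsingleton
  refine ⟨fun x y => ?_⟩
  have key : ∀ z : Abelian.Ext W B p,
      z = (Abelian.Ext.mk₀ e'.hom).comp ((Abelian.Ext.mk₀ e'.inv).comp z (zero_add p)) (zero_add p) := fun z => by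
    rw [← Abelian.Ext.comp_assoc_of_second_deg_zero, Abelian.Ext.mk₀_comp_mk₀, e'.hom_inv_id, Abelian.Ext.mk₀_id_comp]
  rw [key x, key y, Subsingleton.elim ((Abelian.Ext.mk₀ e'.inv).comp x (zero_add p))
    ((Abelian.Ext.mk₀ e'.inv).comp y (zero_add p))]

variable {S : ShortComplex C} (hS : S.ShortExact)

include hS in
theorem subsingleton_X₃_right (A : C) {p : ℕ} [Subsingleton (Abelian.Ext A S.X₂ p)]
    [Subsingleton (Abelian.Ext A S.X₁ (p + 1))] : Subsingleton (Abelian.Ext A S.X₃ p) := by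
  refine subsingleton_of_forall_eq 0 fun x => ?_
  obtain ⟨y, rfl⟩ := Abelian.Ext.covariant_sequence_exact₃ A hS x rfl (Subsingleton.elim _ _)
  rw [Subsingleton.elim y 0, Abelian.Ext.zero_comp]

include hS in
theorem subsingleton_X₃_left_zero (B : C) [Subsingleton (Abelian.Ext S.X₂ B 0)] :
    Subsingleton (Abelian.Ext S.X₃ B 0) := by
  haveI := hS.epi_g
  refine ⟨fun x y => ?_⟩
  obtain ⟨f, rfl⟩ := (Abelian.Ext.mk₀_bijective _ _).2 x
  obtain ⟨f', rfl⟩ := (Abelian.Ext.mk₀_bijective _ _).2 y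
  rw [(cancel_epi S.g).1 ((Abelian.Ext.mk₀_bijective S.X₂ B).1 (Subsingleton.elim _ _) : S.g ≫ f = S.g ≫ f')]

include hS in
theorem subsingleton_X₃_left (B : C) {p : ℕ} [Subsingleton (Abelian.Ext S.X₂ B (1 + p))]
    [Subsingleton (Abelian.Ext S.X₁ B p)] : Subsingleton (Abelian.Ext S.X₃ B (1 + p)) := by
  refine subsingleton_of_forall_eq 0 fun x => ?_
  obtain ⟨y, rfl⟩ := Abelian.Ext.contravariant_sequence_exact₃ hS B x (Subsingleton.elim _ _) (n₀ := p) rfl
  rw [Subsingleton.elim y 0, Abelian.Ext.comp_zero]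

end GrothLib.Exc20
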